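import Groth.Agent.FMKLib7.WIT
import Groth.Agent.KFlatLib.Perfect.LocFreeLocus
import Groth.Agent.KFlatLib.Scheme.LpullLE
import Groth.Agent.QCoh.SupportFT
import Groth.Agent.DerBC7.SepMain

/-!
# Supports of the cohomology of a perfect object and its fibres
-/

set_option autoImplicit false
set_option linter.style.haveILetI false
set_option backward.isDefEq.respectTransparency false
set_option backward.isDefEq.respectTransparency.types false

universe u

open CategoryTheory CategoryTheory.Limits AlgebraicGeometry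

attribute [local instance] HasDerivedCategory.standard

noncomputable section

namespace Groth.Agent.FMKLib7

open Groth.Agent.KFlatLib

variable {Y : Scheme.{u}}

/-- Exactness of the fibre at a point gives exactness of the stalk. -/
theorem subsingleton_stalk_of_isZero_fibre {G : DCoh.D Y} (hG : DCoh.IsPerfect G) (y : Y)
    [DCoh.HasLpull (Y.fromSpecResidueField y)] {k : ℤ}
    (h : IsZero (DCoh.HD ((DCoh.Lpull (Y.fromSpecResidueField y)).obj G) k)) :
    Subsingleton ((DCoh.HD G k).presheaf.stalk y) := by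
  obtain ⟨U, j, _, ⟨z, rfl⟩, P, a, b, hab, hfree, ⟨eE⟩⟩ := exists_free_rep hG y
  obtain ⟨n, e, hP, -⟩ := exists_free_bounded hab hfree
  have hf := betti_formula G (j.base z) j z rfl hP e eE.hom (isPcMap_of_isIso (k - 1) eE.hom)
    (k - 1) k (k + 1) (by omega) rfl (by omega)
  have hb : PerfD.betti G (j.base z) k = 0 := by
    have hz := (DerSch.stalkFunctor (Spec (Y.residueField (j.base z))) default).map_isZero h
    haveI := ModuleCat.subsingleton_of_isZero hz
    exact (finrank_top_eq_stalk _ default).trans Module.finrank_zero_of_subsingleton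
  rw [hb] at hf
  obtain ⟨hex, -, -⟩ := exact_free_stalk z e (k - 1) k (k + 1) (by omega)
  haveI : (DerSch.stalkFunctor U z).PreservesHomology :=
    Functor.preservesHomology_of_map_exact _ fun S hS => (exact_iff_stalk S).1 hS z
  have hz : IsZero ((DerSch.stalkFunctor U z).obj ((DCoh.HD G k).restrict j)) := by
    refine IsZero.of_iso ((ShortComplex.exact_iff_isZero_homology _).1 hex) ?_
    exact (DerSch.stalkFunctor U z).mapIso ((hdRhoIso j G k).symm ≪≫
      (DerivedCategory.homologyFunctor _ k).mapIso eE.symm ≪≫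
      (DerivedCategory.homologyFunctorFactors _ k).app P ≪≫
      P.homologyIsoSc' (k - 1) k (k + 1) (by simp) (by simp)) ≪≫
      ((P.sc' (k - 1) k (k + 1)).mapHomologyIso _).symm
  haveI := ModuleCat.subsingleton_of_isZero hz
  let eAb := (Scheme.Modules.restrictStalkNatIso j z).app (DCoh.HD G k)
  exact @Equiv.subsingleton _ _ eAb.addCommGroupIsoToAddEquiv.symm.toEquiv ‹_›

/-- A nonzero fibre cohomology in degree `i` forces a nonzero stalk in some degree `≥ i`. -/
theorem exists_mem_support_of_fibre {G : DCoh.D Y} (hG : DCoh.IsCohD G) (y : Y)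
    [DCoh.HasLpull (Y.fromSpecResidueField y)] (W : Y.Opens) (hyW : y ∈ W) (hi : ℤ)
    (hW : ∀ j, hi < j → IsZero (DCoh.HD ((rho W.ι).obj G) j)) (i : ℤ)
    (h : ¬ IsZero (DCoh.HD ((DCoh.Lpull (Y.fromSpecResidueField y)).obj G) i)) :
    ∃ j, i ≤ j ∧ y ∈ CohB1.support (DCoh.HD G j) := by
  by_contra hno
  simp only [not_exists, not_and] at hno
  refine h ?_
  let V₀ : Set Y := ⋂ j ∈ Finset.Icc i hi, (CohB1.support (DCoh.HD G j))ᶜ
  have hV₀ : IsOpen V₀ := isOpen_biInter_finset fun j _ => (QCoh.isClosed_support_of_ft (hG j).2).isOpen_compl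
  let V : Y.Opens := W ⊓ ⟨V₀, hV₀⟩
  have hy : y ∈ V := ⟨hyW, Set.mem_iInter₂.2 fun j hj => hno j (Finset.mem_Icc.1 hj).1⟩
  haveI : ((rho V.ι).obj G).IsLE (i - 1) := (DerivedCategory.isLE_iff _ _).2 fun j hj => by
    refine IsZero.of_iso (KFlatLib.isZero_of_stalk _ fun z => ?_) (hdRhoIso V.ι G j)
    refine ModuleCat.isZero_of_iff_subsingleton.2 ?_
    have hs : Subsingleton ((DCoh.HD G j).presheaf.stalk (V.ι.base z)) := by
      by_cases hj' : j ≤ hi
      · exact not_not.1 (Set.mem_iInter₂.1 z.2.2 j (Finset.mem_Icc.2 ⟨by omega, hj'⟩))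
      · have hz' := ((DerSch.stalkFunctor W.toScheme (⟨z.1, z.2.1⟩ : W)).map_isZero
          (IsZero.of_iso (hW j (by omega)) (hdRhoIso W.ι G j).symm))
        haveI := ModuleCat.subsingleton_of_isZero hz'
        exact @Equiv.subsingleton _ _ ((Scheme.Modules.restrictStalkNatIso W.ι (⟨z.1, z.2.1⟩ : W)).app
          (DCoh.HD G j)).addCommGroupIsoToAddEquiv.symm.toEquiv ‹_›
    let eAb := (Scheme.Modules.restrictStalkNatIso V.ι z).app (DCoh.HD G j)
    exact @Equiv.subsingleton _ _ eAb.addCommGroupIsoToAddEquiv.toEquiv hs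
  have hrange : Set.range (Y.fromSpecResidueField y).base ⊆ Set.range V.ι.base := by
    rintro _ ⟨s, rfl⟩
    rw [Scheme.fromSpecResidueField_apply, Scheme.Opens.range_ι]
    exact hy
  let g := IsOpenImmersion.lift V.ι (Y.fromSpecResidueField y) hrange
  haveI := hasLpull g
  obtain ⟨e⟩ := nonempty_lpull_factor g V.ι _ (IsOpenImmersion.lift_fac _ _ hrange) G
  haveI := isLE_lpull g ((rho V.ι).obj G) (i - 1)
  exact (DerivedCategory.isZero_of_isLE ((DCoh.Lpull g).obj ((rho V.ι).obj G)) (i - 1) i (by omega)).of_iso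
    ((DerivedCategory.homologyFunctor _ i).mapIso e.symm)

/-- A perfect object: a nonzero fibre cohomology in degree `i` forces a nonzero stalk in degree `≥ i`. -/
theorem exists_mem_support_of_fibre' [IsLocallyNoetherian Y] {G : DCoh.D Y} (hG : DCoh.IsPerfect G) (y : Y)
    [DCoh.HasLpull (Y.fromSpecResidueField y)] (i : ℤ)
    (h : ¬ IsZero (DCoh.HD ((DCoh.Lpull (Y.fromSpecResidueField y)).obj G) i)) :
    ∃ j, i ≤ j ∧ y ∈ CohB1.support (DCoh.HD G j) := by
  have hs := (KFlatLib.isPerfect_iff G).1 hG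
  have hc : DCoh.IsCohD G := fun n => KFlatLib.isCoh_of_locPC
    (fun j => KFlatLib.isQCoh_HD_of_pseudoCoherent ((KFlatLib.isPseudoCoherentD_iff _ _).2
      (hs.locPC (j - 1))) j (by omega)) (hs.locPC n) n le_rfl
  obtain ⟨W, hW, hyW, -⟩ := exists_isAffineOpen_mem_and_subset (x := y) (U := (⊤ : Y.Opens)) trivial
  haveI : IsAffine W.toScheme := hW
  obtain ⟨b, hb⟩ := KFlatLib.exists_bound_of_locPC
    (((KFlatLib.isPerfect_iff _).1 (PerfGen7.isPerfect_rho' W.ι hG)).locPC 0)
  exact exists_mem_support_of_fibre hc y W hyW b hb i h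

/-- Derived tensor product of perfect objects, for any representative. -/
theorem isPerfect_ltensor' {Z : Scheme.{u}} (P : CochainComplex Z.Modules ℤ) (hP : DCoh.IsPerfect (DCoh.toD Z P))
    [DCoh.HasLTensorCx P] {M : DCoh.D Z} (hM : DCoh.IsPerfect M) : DCoh.IsPerfect ((DCoh.LTensorCx P).obj M) := by
  let Pk := (kRes Z).obj P
  haveI := hasLTensorCx Pk
  let eP : DCoh.toD _ Pk ≅ DCoh.toD _ P := (resQIso _).app P
  obtain ⟨cP⟩ := nonempty_LTensorCx_congr_D eP
  exact PerfGen7.isPerfect_of_iso' (cP.app M)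
    (Groth.Agent.S0962.result Pk (isKFlat_kRes _) (PerfGen7.isPerfect_of_iso' eP.symm hP) M hM)

/-- Cohomology of the fibres of `f` as fibres of `Rf_*`. -/
theorem isZero_hyper_fibre_iff {Z : Scheme.{u}} (f : Z ⟶ Y) [IsProper f] [Flat f] [IsLocallyNoetherian Z]
    [DCoh.HasRpush f] (y : Y) [DCoh.HasLpull (Y.fromSpecResidueField y)]
    [DCoh.HasLpull (pullback.fst f (Y.fromSpecResidueField y))]
    [DCoh.HasRΓ (pullback f (Y.fromSpecResidueField y))] {E : DCoh.D Z} (hE : DCoh.IsPerfect E) (i : ℤ) :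
    IsZero ((DerivedCategory.homologyFunctor AddCommGrpCat.{u} i).obj
        ((DCoh.RΓ (pullback f (Y.fromSpecResidueField y))).obj
          ((DCoh.Lpull (pullback.fst f (Y.fromSpecResidueField y))).obj E))) ↔
      IsZero (DCoh.HD ((DCoh.Lpull (Y.fromSpecResidueField y)).obj ((DCoh.Rpush f).obj E)) i) := by
  let g := Y.fromSpecResidueField y
  let f' := pullback.snd f g
  let g' := pullback.fst f g
  have h : IsPullback g' f' f g := IsPullback.of_hasPullback f g
  haveI := hasRpush_scheme f'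
  haveI : Subsingleton (Spec (Y.residueField y)) := inferInstanceAs (Subsingleton (PrimeSpectrum (Y.residueField y)))
  rw [isZero_hyper_iff (default : Spec (Y.residueField y)) f']
  obtain ⟨V, hV, hyV, -⟩ := exists_isAffineOpen_mem_and_subset (x := y) (U := (⊤ : Y.Opens)) trivial
  haveI : IsAffine V.toScheme := hV
  have hrange : Set.range g.base ⊆ Set.range V.ι.base := by
    rintro _ ⟨s, rfl⟩
    rw [Scheme.fromSpecResidueField_apply, Scheme.Opens.range_ι]
    exact hyV
  let g₀ := IsOpenImmersion.lift V.ι g hrange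
  have hg : g₀ ≫ V.ι = g := IsOpenImmersion.lift_fac _ _ hrange
  have hp := (isPullback_morphismRestrict f V).flip
  haveI : IsProper (f ∣_ V) := MorphismProperty.of_isPullback hp ‹_›
  haveI : Flat (f ∣_ V) := MorphismProperty.of_isPullback hp ‹_›
  haveI : CompactSpace (f ⁻¹ᵁ V).toScheme := QuasiCompact.compactSpace_of_compactSpace (f ∣_ V)
  haveI : IsNoetherian (f ⁻¹ᵁ V).toScheme := {}
  haveI := hasRpush_scheme (f ∣_ V)
  haveI := hasLpull g₀
  let g'₀ : pullback f g ⟶ (f ⁻¹ᵁ V).toScheme := hp.lift g' (f' ≫ g₀) (by rw [Category.assoc, hg]; exact h.w)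
  have hfst : g'₀ ≫ (f ⁻¹ᵁ V).ι = g' := hp.lift_fst _ _ _
  have hsnd : g'₀ ≫ (f ∣_ V) = f' ≫ g₀ := hp.lift_snd _ _ _
  have hsq : IsPullback g'₀ f' (f ∣_ V) g₀ := IsPullback.of_right (by rw [hfst, hg]; exact h) hsnd hp
  haveI := hasLpull g'₀
  haveI := hasRpush_scheme g₀
  haveI := hasRpush_scheme g'₀
  obtain ⟨a⟩ := nonempty_lpull_factor g₀ V.ι g hg ((DCoh.Rpush f).obj E)
  obtain ⟨a'⟩ := nonempty_lpull_factor g'₀ (f ⁻¹ᵁ V).ι g' hfst E
  obtain ⟨b⟩ := nonempty_rpush_restrictD_iso f V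
  obtain ⟨hc, lo, hi, hlo, hhi⟩ := Groth.Agent.S1006.result _ _ (PerfGen7.isPerfect_rho' (f ⁻¹ᵁ V).ι hE)
  haveI := hlo
  haveI := hhi
  obtain ⟨c⟩ := DerBC7.nonempty_baseChange_iso hsq ((rho (f ⁻¹ᵁ V).ι).obj E) lo hi fun l => (hc l).1
  exact Iso.isZero_iff ((DerivedCategory.homologyFunctor _ i).mapIso
    (a.symm ≪≫ (DCoh.Lpull g₀).mapIso (b.app E) ≪≫ c ≪≫ (DCoh.Rpush f').mapIso a').symm)

end Groth.Agent.FMKLib7

end
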