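import Groth.Prelude.Def_CAlg
import Mathlib

/-!
# Dual of a complex of free modules with a support condition

For a bounded complex `B` of finite free modules over a Cohen-Macaulay local ring, such that at each
prime `p` the cohomology vanishes in degrees above `dim R_p + c`, the dual complex is exact in
degrees above `c` (chain indexing). Everything is phrased with matrices.
-/

set_option autoImplicit false

universe u

open IsLocalRing Matrix

namespace Groth.Agent.FMKLib7

variable {R : Type u} [CommRing R] {p q r : ℕ}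

/-- Exactness modulo an ideal. -/
def ExMod (I : Ideal R) (a : Matrix (Fin p) (Fin q) R) (b : Matrix (Fin q) (Fin r) R) : Prop :=
  ∀ v, (∀ l, (a *ᵥ v) l ∈ I) → ∃ w, ∀ l, (v - b *ᵥ w) l ∈ I

/-- Exactness. -/
def Ex0 (a : Matrix (Fin p) (Fin q) R) (b : Matrix (Fin q) (Fin r) R) : Prop :=
  ∀ v, a *ᵥ v = 0 → ∃ w, b *ᵥ w = v

theorem ex0_iff_exMod_bot (a : Matrix (Fin p) (Fin q) R) (b : Matrix (Fin q) (Fin r) R) :
    Ex0 a b ↔ ExMod ⊥ a b := by
  refine forall_congr' fun v => imp_congr ?_ (exists_congr fun w => ?_)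
  · simp [funext_iff]
  · simp [funext_iff, sub_eq_zero, eq_comm]

theorem mulVec_mem {I : Ideal R} (a : Matrix (Fin p) (Fin q) R) {v : Fin q → R} (h : ∀ l, v l ∈ I) (l : Fin p) :
    (a *ᵥ v) l ∈ I :=
  show ∑ j, a l j * v j ∈ I from Submodule.sum_mem _ fun j _ => I.mul_mem_left _ (h j)

/-- A splitting in one degree gives exactness modulo every ideal. -/
theorem exMod_of_splitting {a : Matrix (Fin p) (Fin q) R} {b : Matrix (Fin q) (Fin r) R}
    {g : Matrix (Fin q) (Fin p) R} {h : Matrix (Fin r) (Fin q) R} (e : g * a + b * h = 1) (I : Ideal R) :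
    ExMod I a b := fun v hv => ⟨h *ᵥ v, fun l => by
  have h1 : v - b *ᵥ (h *ᵥ v) = g *ᵥ (a *ᵥ v) := by
    conv_lhs => arg 1; rw [← one_mulVec v, ← e, add_mulVec]
    rw [mulVec_mulVec, mulVec_mulVec, add_sub_cancel_right]
  rw [h1]
  exact mulVec_mem g hv l⟩

/-- Exactness and a pseudo-inverse of one map give a splitting and a pseudo-inverse of the next. -/
theorem exists_splitting {a : Matrix (Fin p) (Fin q) R} {b : Matrix (Fin q) (Fin r) R} (hab : a * b = 0)
    (hex : Ex0 a b) {g : Matrix (Fin q) (Fin p) R} (hg : a * g * a = a) :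
    ∃ h : Matrix (Fin r) (Fin q) R, g * a + b * h = 1 ∧ b * h * b = b := by
  have h0 : a * (1 - g * a) = 0 := by rw [Matrix.mul_sub, Matrix.mul_one, ← Matrix.mul_assoc, hg, sub_self]
  choose w hw using fun j : Fin q => hex ((1 - g * a) *ᵥ Pi.single j 1) (by rw [mulVec_mulVec, h0, zero_mulVec])
  let h : Matrix (Fin r) (Fin q) R := Matrix.of fun i j => w j i
  have hh : g * a + b * h = 1 := by
    rw [add_comm, ← eq_sub_iff_add_eq]
    ext i j
    have := congrFun (hw j) i
    simp only [mulVec_single_one] at this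
    simpa [h, Matrix.mul_apply, mulVec, dotProduct] using this
  refine ⟨h, hh, ?_⟩
  calc b * h * b = (1 - g * a) * b := by rw [← hh]; simp
    _ = b := by rw [Matrix.sub_mul, Matrix.one_mul, Matrix.mul_assoc, hab, Matrix.mul_zero, sub_zero]

theorem map_splitting {S : Type*} [CommRing S] (φ : R →+* S) {a : Matrix (Fin p) (Fin q) R}
    {b : Matrix (Fin q) (Fin r) R} {g : Matrix (Fin q) (Fin p) R} {h : Matrix (Fin r) (Fin q) R}
    (e : g * a + b * h = 1) : g.map φ * a.map φ + b.map φ * h.map φ = 1 := by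
  rw [← Matrix.map_mul, ← Matrix.map_mul, ← Matrix.map_add φ (map_add φ), e,
    Matrix.map_one φ (map_zero φ) (map_one φ)]

section Complex

variable (n : ℤ → ℕ)

/-- A splitting of the complex in degree `i`. -/
def SplitAt (B : ∀ i j : ℤ, Matrix (Fin (n j)) (Fin (n i)) R) (i : ℤ) : Prop :=
  ∀ l h : ℤ, l + 1 = i → i + 1 = h →
    ∃ (g : Matrix (Fin (n i)) (Fin (n h)) R) (k : Matrix (Fin (n l)) (Fin (n i)) R),
      g * B i h + B l i * k = 1 ∧ B l i * k * B l i = B l i

/-- Exactness of the complex in degree `i`. -/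
def ExC (B : ∀ i j : ℤ, Matrix (Fin (n j)) (Fin (n i)) R) (i : ℤ) : Prop :=
  ∀ l h : ℤ, l + 1 = i → i + 1 = h → Ex0 (B i h) (B l i)

/-- Exactness of the dual complex in degree `i`. -/
def ExD (B : ∀ i j : ℤ, Matrix (Fin (n j)) (Fin (n i)) R) (i : ℤ) : Prop :=
  ∀ l h : ℤ, l + 1 = i → i + 1 = h → Ex0 (B l i)ᵀ (B i h)ᵀ

variable {n}
variable {B : ∀ i j : ℤ, Matrix (Fin (n j)) (Fin (n i)) R} (hsq : ∀ i j k, B j k * B i j = 0)
  {b : ℤ} (hb : ∀ i, b < i → n i = 0)

include hsq hb in
/-- A complex exact above `N` splits there. -/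
theorem splitAt_of_exC {N : ℤ} (hex : ∀ i, N < i → ExC n B i) : ∀ i, N < i → SplitAt n B i := by
  suffices H : ∀ (t : ℕ) (i : ℤ), b + 1 ≤ i + t → N < i → SplitAt n B i from
    fun i hi => H (b + 1 - i).toNat i (by omega) hi
  intro t
  induction t with
  | zero =>
    intro i hbi _ l h hl hh
    haveI : IsEmpty (Fin (n i)) := by rw [hb i (by omega)]; exact Fin.isEmpty
    exact ⟨0, 0, Subsingleton.elim _ _, Subsingleton.elim _ _⟩
  | succ t ih =>
    intro i hbi hi l h hl hh
    obtain ⟨g', k', -, hk⟩ := ih h (by omega) (by omega) i (h + 1) (by omega) rfl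
    obtain ⟨k, e, hk'⟩ := exists_splitting (hsq l i h) (hex i hi l h hl hh) hk
    exact ⟨k', k, e, hk'⟩

include hsq in
/-- An exact dual complex with a pseudo-inverse at the bottom splits above it. -/
theorem exists_splitting_dual {N : ℤ} (hex : ∀ i, N < i → ExD n B i)
    (hbot : ∀ h, N + 1 = h → ∃ g : Matrix (Fin (n N)) (Fin (n h)) R, B N h * g * B N h = B N h) :
    ∀ i, N < i → ∀ l h : ℤ, l + 1 = i → i + 1 = h →
      ∃ (g : Matrix (Fin (n i)) (Fin (n h)) R) (k : Matrix (Fin (n l)) (Fin (n i)) R),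
        g * B i h + B l i * k = 1 ∧ B i h * g * B i h = B i h := by
  suffices H : ∀ (t : ℕ) (i : ℤ), N + 1 + t = i → ∀ l h : ℤ, l + 1 = i → i + 1 = h →
      ∃ (g : Matrix (Fin (n i)) (Fin (n h)) R) (k : Matrix (Fin (n l)) (Fin (n i)) R),
        g * B i h + B l i * k = 1 ∧ B i h * g * B i h = B i h from
    fun i hi => H (i - (N + 1)).toNat i (by omega)
  intro t
  induction t with
  | zero =>
    intro i hi l h hl hh
    obtain rfl : l = N := by omega
    obtain ⟨g₀, hg₀⟩ := hbot i hl
    have hg' : (B l i)ᵀ * g₀ᵀ * (B l i)ᵀ = (B l i)ᵀ := by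
      rw [← transpose_mul, ← transpose_mul, ← Matrix.mul_assoc, hg₀]
    obtain ⟨k, e, hk⟩ := exists_splitting (by rw [← transpose_mul, hsq, transpose_zero])
      (hex i (by omega) l h hl hh) hg'
    refine ⟨kᵀ, g₀, ?_, ?_⟩
    · have := congrArg Matrix.transpose e
      rw [transpose_add, transpose_mul, transpose_mul, transpose_one, transpose_transpose, transpose_transpose,
        transpose_transpose] at this
      rw [add_comm] at this
      exact this
    · have := congrArg Matrix.transpose hk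
      rw [transpose_mul, transpose_mul, transpose_transpose, ← Matrix.mul_assoc] at this
      exact this
  | succ t ih =>
    intro i hi l h hl hh
    obtain ⟨g₀, -, -, hg₀⟩ := ih l (by omega) (l - 1) i (by omega) hl
    have hg' : (B l i)ᵀ * g₀ᵀ * (B l i)ᵀ = (B l i)ᵀ := by
      rw [← transpose_mul, ← transpose_mul, ← Matrix.mul_assoc, hg₀]
    obtain ⟨k, e, hk⟩ := exists_splitting (by rw [← transpose_mul, hsq, transpose_zero])
      (hex i (by omega) l h hl hh) hg'
    refine ⟨kᵀ, g₀, ?_, ?_⟩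
    · have := congrArg Matrix.transpose e
      rw [transpose_add, transpose_mul, transpose_mul, transpose_one, transpose_transpose, transpose_transpose,
        transpose_transpose] at this
      rw [add_comm] at this
      exact this
    · have := congrArg Matrix.transpose hk
      rw [transpose_mul, transpose_mul, transpose_transpose, ← Matrix.mul_assoc] at this
      exact this

end Complex

theorem exMod_dual_of_splitting {n₁ n₂ n₃ : ℕ} {a : Matrix (Fin n₂) (Fin n₁) R} {c : Matrix (Fin n₃) (Fin n₂) R}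
    {g : Matrix (Fin n₂) (Fin n₃) R} {k : Matrix (Fin n₁) (Fin n₂) R} (e : g * c + a * k = 1) (I : Ideal R) :
    ExMod I aᵀ cᵀ :=
  exMod_of_splitting (g := kᵀ) (h := gᵀ) (by
    rw [← transpose_mul, ← transpose_mul, ← transpose_add, add_comm, e, transpose_one]) I

section Depth

variable [IsLocalRing R] [IsNoetherianRing R] {n : ℤ → ℕ} {B : ∀ i j : ℤ, Matrix (Fin (n j)) (Fin (n i)) R}

/-- Acyclicity: along a regular sequence of length `e`, exactness modulo every ideal above `N` and
torsion cohomology above `N - e` give exactness above `N - e`. -/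
theorem exD_of_regular (hsq : ∀ i j k, B j k * B i j = 0) {N : ℤ} (rs : List R)
    (hrs : RingTheory.Sequence.IsWeaklyRegular R rs) (hmem : ∀ x ∈ rs, x ∈ maximalIdeal R)
    (htop : ∀ I : Ideal R, ∀ i l h : ℤ, N < i → l + 1 = i → i + 1 = h → ExMod I (B l i)ᵀ (B i h)ᵀ)
    (htor : ∀ i l h : ℤ, N - rs.length < i → l + 1 = i → i + 1 = h → ∀ v, (B l i)ᵀ *ᵥ v = 0 →
      ∃ M : ℕ, ∀ x ∈ maximalIdeal R ^ M, ∃ w, (B i h)ᵀ *ᵥ w = x • v) :
    ∀ i, N - rs.length < i → ExD n B i := by
  let K : ℕ → Ideal R := fun k => Ideal.ofList (rs.take k)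
  have hK0 : K 0 = ⊥ := by simp [K]
  have hKsucc : ∀ k (hk : k < rs.length), K (k + 1) = K k ⊔ Ideal.span {rs[k]} := fun k hk => by
    simp only [K]
    rw [List.take_succ_eq_append_getElem hk, Ideal.ofList_append, Ideal.ofList_singleton]
  have hreg : ∀ k (hk : k < rs.length), ∀ y, rs[k] * y ∈ K k → y ∈ K k := fun k hk y hy => by
    have h := hrs.regular_mod_prev k hk
    have hKk : (Ideal.ofList (rs.take k) • ⊤ : Submodule R R) = K k := by
      rw [smul_eq_mul, Ideal.mul_top]
    have h' : Submodule.Quotient.mk (p := (Ideal.ofList (rs.take k) • ⊤ : Submodule R R)) y = 0 := by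
      refine h ?_
      simp only [smul_zero]
      rw [← Submodule.Quotient.mk_smul, Submodule.Quotient.mk_eq_zero, hKk, smul_eq_mul]
      exact hy
    rw [Submodule.Quotient.mk_eq_zero, hKk] at h'
    exact h'
  let Tor : ℕ → Prop := fun k => ∀ i l h : ℤ, N - rs.length + k < i → l + 1 = i → i + 1 = h →
    ∀ v, (∀ s, ((B l i)ᵀ *ᵥ v) s ∈ K k) →
      ∃ M : ℕ, ∀ x ∈ maximalIdeal R ^ M, ∃ w, ∀ s, (x • v - (B i h)ᵀ *ᵥ w) s ∈ K k
  have ht : ∀ k, k ≤ rs.length → Tor k := by
    intro k
    induction k with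
    | zero =>
      intro _ i l h hi hl hh v hv
      obtain ⟨M, hM⟩ := htor i l h (by simpa using hi) hl hh v (funext fun s => by simpa [hK0] using hv s)
      exact ⟨M, fun x hx => (hM x hx).imp fun w hw s => by simp [hw]⟩
    | succ k ih =>
      intro hk i l h hi hl hh v hv
      have ih' := ih (by omega)
      have hk' : k < rs.length := by omega
      have hdec : ∀ s, ∃ u, ((B l i)ᵀ *ᵥ v) s - rs[k] * u ∈ K k := fun s => by
        have := hv s
        rw [hKsucc k hk', Submodule.mem_sup] at this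
        obtain ⟨y, hy, z, hz, e⟩ := this
        obtain ⟨u, rfl⟩ := Ideal.mem_span_singleton.1 hz
        exact ⟨u, by rw [← e, add_sub_cancel_right]; exact hy⟩
      choose u hu using hdec
      have hcyc : ∀ s, ((B (l - 1) l)ᵀ *ᵥ u) s ∈ K k := fun s => by
        refine hreg k hk' _ ?_
        have h1 := mulVec_mem (B (l - 1) l)ᵀ (v := (B l i)ᵀ *ᵥ v - rs[k] • u) (I := K k) (fun t => hu t) s
        rw [mulVec_sub, mulVec_mulVec, ← transpose_mul, hsq, transpose_zero, zero_mulVec, mulVec_smul,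
          zero_sub, Pi.neg_apply, Pi.smul_apply, smul_eq_mul, neg_mem_iff] at h1
        exact h1
      obtain ⟨M₁, hM₁⟩ := ih' l (l - 1) i (by push_cast at hi; omega) (by omega) hl u hcyc
      let C : Ideal R :=
        { carrier := {x | ∃ w, ∀ s, (x • v - (B i h)ᵀ *ᵥ w) s ∈ K (k + 1)}
          add_mem' := by
            rintro x y ⟨w, hw⟩ ⟨w', hw'⟩
            refine ⟨w + w', fun s => ?_⟩
            rw [add_smul, mulVec_add, add_sub_add_comm]
            exact add_mem (hw s) (hw' s)
          zero_mem' := ⟨0, fun s => by simp⟩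
          smul_mem' := by
            rintro c x ⟨w, hw⟩
            refine ⟨c • w, fun s => ?_⟩
            rw [smul_eq_mul, mul_smul, mulVec_smul, ← smul_sub]
            exact Ideal.mul_mem_left _ _ (hw s) }
      suffices hC : ∃ M, maximalIdeal R ^ M ≤ C from hC.imp fun M hM x hx => hM hx
      have hKle : K k ≤ K (k + 1) := by rw [hKsucc k hk']; exact le_sup_left
      have hxmem : rs[k] ∈ K (k + 1) := by
        rw [hKsucc k hk']
        exact Submodule.mem_sup_right (Ideal.mem_span_singleton_self _)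
      -- each product of a killer of `u` and a killer of the corrected cycle kills `v`
      have hstep : ∀ x ∈ maximalIdeal R ^ M₁, ∃ M, ∀ y ∈ maximalIdeal R ^ M, y * x ∈ C := fun x hx => by
        obtain ⟨w, hw⟩ := hM₁ x hx
        let v' := x • v - rs[k] • w
        have hv' : ∀ s, ((B l i)ᵀ *ᵥ v') s ∈ K k := fun s => by
          have h1 : ((B l i)ᵀ *ᵥ v') s =
              x * (((B l i)ᵀ *ᵥ v) s - rs[k] * u s) + rs[k] * ((x • u - (B l i)ᵀ *ᵥ w) s) := by
            simp only [v', mulVec_sub, mulVec_smul, Pi.sub_apply, Pi.smul_apply, smul_eq_mul]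
            ring
          rw [h1]
          exact add_mem (Ideal.mul_mem_left _ _ (hu s)) (Ideal.mul_mem_left _ _ (hw s))
        obtain ⟨M, hM⟩ := ih' i l h (by push_cast at hi; omega) hl hh v' hv'
        refine ⟨M, fun y hy => ?_⟩
        obtain ⟨z, hz⟩ := hM y hy
        refine ⟨z, fun s => ?_⟩
        have h1 : ((y * x) • v - (B i h)ᵀ *ᵥ z) s = (y • v' - (B i h)ᵀ *ᵥ z) s + rs[k] * (y * w s) := by
          simp only [v', Pi.sub_apply, Pi.smul_apply, smul_eq_mul]
          ring
        rw [h1]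
        exact add_mem (hKle (hz s)) (Ideal.mul_mem_right _ _ hxmem)
      have hrad : maximalIdeal R ≤ C.radical := fun y hy => by
        obtain ⟨M, hM⟩ := hstep (y ^ M₁) (Ideal.pow_mem_pow hy _)
        exact ⟨M + M₁, by rw [pow_add]; exact hM _ (Ideal.pow_mem_pow hy _)⟩
      exact Ideal.exists_pow_le_of_le_radical_of_fg hrad (IsNoetherian.noetherian _)
  suffices H : ∀ t k, k + t = rs.length → ∀ i l h : ℤ, N - rs.length + k < i → l + 1 = i → i + 1 = h →
      ExMod (K k) (B l i)ᵀ (B i h)ᵀ by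
    intro i hi l h hl hh
    rw [ex0_iff_exMod_bot, ← hK0]
    exact H rs.length 0 (by omega) i l h (by push_cast; omega) hl hh
  intro t
  induction t with
  | zero =>
    intro k hk i l h hi hl hh
    exact htop _ i l h (by omega) hl hh
  | succ t ih =>
    intro k hk i l h hi hl hh v hv
    have hk' : k < rs.length := by omega
    -- multiplication by `rs[k]` reflects boundaries
    have hdiv : ∀ y : Fin (n i) → R, (∀ s, ((B l i)ᵀ *ᵥ y) s ∈ K k) →
        (∃ w, ∀ s, (rs[k] • y - (B i h)ᵀ *ᵥ w) s ∈ K k) → ∃ w, ∀ s, (y - (B i h)ᵀ *ᵥ w) s ∈ K k := by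
      intro y _ ⟨w, hw⟩
      have hcyc : ∀ s, ((B i h)ᵀ *ᵥ w) s ∈ K (k + 1) := fun s => by
        rw [hKsucc k hk']
        have h1 : ((B i h)ᵀ *ᵥ w) s = rs[k] * y s - (rs[k] • y - (B i h)ᵀ *ᵥ w) s := by simp
        rw [h1]
        exact sub_mem (Submodule.mem_sup_right (Ideal.mul_mem_right _ _ (Ideal.mem_span_singleton_self _)))
          (Submodule.mem_sup_left (hw s))
      obtain ⟨z, hz⟩ := ih (k + 1) (by omega) h i (h + 1) (by push_cast; omega) hh rfl w hcyc
      have hdec : ∀ s, ∃ d, (w - (B h (h + 1))ᵀ *ᵥ z) s - rs[k] * d ∈ K k := fun s => by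
        have := hz s
        rw [hKsucc k hk', Submodule.mem_sup] at this
        obtain ⟨a', ha', c', hc', e⟩ := this
        obtain ⟨d, rfl⟩ := Ideal.mem_span_singleton.1 hc'
        exact ⟨d, by rw [← e, add_sub_cancel_right]; exact ha'⟩
      choose d hd using hdec
      refine ⟨d, fun s => hreg k hk' _ ?_⟩
      have h2 := mulVec_mem (B i h)ᵀ (v := (w - (B h (h + 1))ᵀ *ᵥ z) - rs[k] • d) (I := K k) (fun t => hd t) s
      rw [mulVec_sub, mulVec_sub, mulVec_mulVec, ← transpose_mul, hsq, transpose_zero, zero_mulVec, sub_zero,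
        mulVec_smul] at h2
      have h3 : rs[k] * (y - (B i h)ᵀ *ᵥ d) s =
          (rs[k] • y - (B i h)ᵀ *ᵥ w) s + (((B i h)ᵀ *ᵥ w) - rs[k] • ((B i h)ᵀ *ᵥ d)) s := by
        simp only [Pi.sub_apply, Pi.smul_apply, smul_eq_mul]
        ring
      rw [h3]
      exact add_mem (hw s) h2
    obtain ⟨M, hM⟩ := ht k (by omega) i l h hi hl hh v hv
    have hpow : ∀ j, (∃ w, ∀ s, ((rs[k] ^ j) • v - (B i h)ᵀ *ᵥ w) s ∈ K k) →
        ∃ w, ∀ s, (v - (B i h)ᵀ *ᵥ w) s ∈ K k := by
      intro j
      induction j with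
      | zero => intro h0; simpa using h0
      | succ j ihj =>
        intro hs
        refine ihj (hdiv (rs[k] ^ j • v) (fun s => ?_) ?_)
        · rw [mulVec_smul]
          exact Ideal.mul_mem_left _ _ (hv s)
        · simpa [smul_smul, ← pow_succ'] using hs
    exact hpow M (hM _ (Ideal.pow_mem_pow (hmem _ (List.getElem_mem hk')) _))

end Depth

end Groth.Agent.FMKLib7
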