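import Groth.Agent.FMKLib7.GVLoc
import Groth.Agent.FMKLib7.CohSupp
import Groth.Agent.LC.GorHull
import Groth.Agent.FDescent.StalkFinite

/-!
# Cohomological support loci of a perfect object with the GV condition
-/

set_option autoImplicit false
set_option linter.style.haveILetI false
set_option backward.isDefEq.respectTransparency false
set_option backward.isDefEq.respectTransparency.types false

universe u

open CategoryTheory CategoryTheory.Limits AlgebraicGeometry Opposite Module

attribute [local instance] HasDerivedCategory.standard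

noncomputable section

namespace Groth.Agent.FMKLib7

open Groth.Agent.KFlatLib

variable {U : Scheme.{u}} {P : CochainComplex U.Modules ℤ} {n : ℤ → ℕ} (e : ∀ i, P.X i ≅ FlatMod.freeMod U (n i))

/-- Exact stalk complexes as exact matrices. -/
theorem ex0_stalk (z : U) (l i h : ℤ) (hex : ((P.sc' l i h).map (DerSch.stalkFunctor U z)).Exact) :
    Ex0 ((dMat e i h).map (U.presheaf.germ ⊤ z trivial).hom) ((dMat e l i).map (U.presheaf.germ ⊤ z trivial).hom) := by
  let st := DerSch.stalkFunctor U z
  let S : ShortComplex U.Modules := ShortComplex.mk ((e l).inv ≫ P.d l i ≫ (e i).hom)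
    ((e i).inv ≫ P.d i h ≫ (e h).hom) (by simp)
  let eS : P.sc' l i h ≅ S := ShortComplex.isoMk (e l) (e i) (e h)
    (Iso.hom_inv_id_assoc (e l) _) (Iso.hom_inv_id_assoc (e i) _)
  have hS : Function.Exact (S.map st).f.hom (S.map st).g.hom :=
    (ShortComplex.ShortExact.moduleCat_exact_iff_function_exact _).1
      (ShortComplex.exact_of_iso (st.mapShortComplex.mapIso eS) hex)
  intro v hv
  let bi := eBasis z (n i)
  let bl := eBasis z (n l)
  let bh := eBasis z (n h)
  let x := bi.equivFun.symm v
  have hx : ∀ k, bi.repr x k = v k := fun k => congrFun (bi.equivFun.apply_symm_apply v) k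
  have hgx : (st.map ((e i).inv ≫ P.d i h ≫ (e h).hom)).hom x = 0 := by
    refine bh.repr.injective (Finsupp.ext fun k => ?_)
    have h1 := congrFun (LinearMap.toMatrix_mulVec_repr bi bh (st.map ((e i).inv ≫ P.d i h ≫ (e h).hom)).hom x) k
    rw [toMatrix_stalk, show (⇑(bi.repr x) : Fin (n i) → _) = v from funext hx] at h1
    rw [← h1, map_zero]
    exact congrFun hv k
  obtain ⟨y, hy⟩ := (hS x).1 hgx
  refine ⟨⇑(bl.repr y), funext fun k => ?_⟩
  have h1 := congrFun (LinearMap.toMatrix_mulVec_repr bl bi (st.map ((e l).inv ≫ P.d l i ≫ (e i).hom)).hom y) k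
  rw [toMatrix_stalk] at h1
  exact h1.trans ((congrArg (fun t => bi.repr t k) hy).trans (hx k))

/-- The matrices form a complex. -/
theorem dMat_mul (i j k : ℤ) : dMat e j k * dMat e i j = 0 := by
  ext s t
  refine TopCat.Presheaf.section_ext (U.sheaf) ⊤ _ _ fun z hz => ?_
  let st := DerSch.stalkFunctor U z
  let φ := (U.presheaf.germ ⊤ z trivial).hom
  have h1 : (dMat e j k).map φ * (dMat e i j).map φ = 0 := by
    rw [dMat, dMat, ← toMatrix_stalk, ← toMatrix_stalk, ← LinearMap.toMatrix_comp, ← ModuleCat.hom_comp,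
      ← Functor.map_comp]
    simp
  rw [← Matrix.map_mul] at h1
  show φ ((dMat e j k * dMat e i j) s t) = φ 0
  rw [map_zero]
  exact congrFun (congrFun h1 s) t

/-- A free cokernel gives a pseudo-inverse. -/
theorem exists_pseudoInverse (z : U) (i h : ℤ)
    (hfree : Module.Free (U.presheaf.stalk z) ((DerSch.stalkFunctor U z).obj (cokernel (P.d i h)))) :
    ∃ g : Matrix (Fin (n i)) (Fin (n h)) (U.presheaf.stalk z),
      (dMat e i h).map (U.presheaf.germ ⊤ z trivial).hom * g * (dMat e i h).map (U.presheaf.germ ⊤ z trivial).hom =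
        (dMat e i h).map (U.presheaf.germ ⊤ z trivial).hom := by
  let st := DerSch.stalkFunctor U z
  let d := (e i).inv ≫ P.d i h ≫ (e h).hom
  let f := (st.map d).hom
  haveI := hfree
  let c : st.obj (cokernel (P.d i h)) ≅
      ModuleCat.of (U.presheaf.stalk z) ((st.obj (FlatMod.freeMod U (n h))) ⧸ LinearMap.range f) :=
    st.mapIso (cokernel.mapIso (P.d i h) d (e i) (e h) (Iso.hom_inv_id_assoc (e i) _).symm) ≪≫
      PreservesCokernel.iso st _ ≪≫ ModuleCat.cokernelIsoRangeQuotient _
  haveI : Module.Free (U.presheaf.stalk z) ((st.obj (FlatMod.freeMod U (n h))) ⧸ LinearMap.range f) :=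
    Module.Free.of_equiv' hfree c.toLinearEquiv
  obtain ⟨s, hs⟩ := Module.projective_lifting_property (LinearMap.range f).mkQ LinearMap.id (Submodule.mkQ_surjective _)
  have hmem : ∀ m, m - s ((LinearMap.range f).mkQ m) ∈ LinearMap.range f := fun m => by
    rw [← Submodule.Quotient.mk_eq_zero, Submodule.Quotient.mk_sub, sub_eq_zero]
    exact (LinearMap.congr_fun hs _).symm
  let π : (st.obj (FlatMod.freeMod U (n h))) →ₗ[U.presheaf.stalk z] LinearMap.range f :=
    (LinearMap.id - s ∘ₗ (LinearMap.range f).mkQ).codRestrict _ hmem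
  haveI := Module.Free.of_basis (eBasis z (n h))
  haveI := Module.Finite.of_basis (eBasis z (n h))
  haveI : Module.Projective (U.presheaf.stalk z) (LinearMap.range f) :=
    Module.Projective.of_split (LinearMap.range f).subtype π (LinearMap.ext fun m => Subtype.ext (by
      have : (LinearMap.range f).mkQ (m : st.obj (FlatMod.freeMod U (n h))) = 0 := (Submodule.Quotient.mk_eq_zero _).2 m.2
      simp [π, this]))
  obtain ⟨σ, hσ⟩ := Module.projective_lifting_property f.rangeRestrict LinearMap.id f.surjective_rangeRestrict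
  refine ⟨LinearMap.toMatrix (eBasis z (n h)) (eBasis z (n i)) (σ ∘ₗ π), ?_⟩
  rw [dMat, ← toMatrix_stalk, ← LinearMap.toMatrix_comp, ← LinearMap.toMatrix_comp]
  congr 1
  refine LinearMap.ext fun x => ?_
  show f (σ (π (f x))) = f x
  have h1 : π (f x) = f.rangeRestrict x := Subtype.ext (by
    have : (LinearMap.range f).mkQ (f x) = 0 := (Submodule.Quotient.mk_eq_zero _).2 ⟨x, rfl⟩
    simp [π, this])
  rw [h1]
  exact congrArg Subtype.val (LinearMap.congr_fun hσ (f.rangeRestrict x))

/-- A splitting over a field bounds the dimension by the ranks. -/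
theorem le_rank_add_rank {K : Type u} [Field K] {p q r : ℕ} {a : Matrix (Fin p) (Fin q) K}
    {b : Matrix (Fin q) (Fin r) K} {g : Matrix (Fin q) (Fin p) K} {h : Matrix (Fin r) (Fin q) K}
    (e : g * a + b * h = 1) : q ≤ a.rank + b.rank := by
  calc q = (1 : Matrix (Fin q) (Fin q) K).rank := by rw [Matrix.rank_one, Fintype.card_fin]
    _ = (g * a + b * h).rank := by rw [e]
    _ ≤ (g * a).rank + (b * h).rank := by
      refine le_trans (Submodule.finrank_mono ?_) (Submodule.finrank_add_le_finrank_add_finrank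
        (g * a).mulVecLin.range (b * h).mulVecLin.range)
      rw [Matrix.mulVecLin_add]
      rintro _ ⟨v, rfl⟩
      exact Submodule.add_mem_sup ⟨v, rfl⟩ ⟨v, rfl⟩
    _ ≤ a.rank + b.rank := add_le_add (Matrix.rank_mul_le_right _ _) (Matrix.rank_mul_le_left _ _)

variable {Y : Scheme.{u}}

/-- Under the GV condition a vanishing fibre cohomology in degree `i ≥ c` propagates upwards. -/
theorem isZero_fibre_of_gv [IsLocallyNoetherian Y] (hCM : ∀ y : Y, LocCoh.IsCohenMacaulayLocalRing (Y.presheaf.stalk y))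
    {G : DCoh.D Y} (hG : DCoh.IsPerfect G) (c : ℕ)
    (hGV : ∀ (i : ℕ) (y : Y), y ∈ CohB1.support (DCoh.HD G (i : ℤ)) →
      ((i - c : ℕ) : WithBot ℕ∞) ≤ ringKrullDim (Y.presheaf.stalk y))
    (y : Y) [DCoh.HasLpull (Y.fromSpecResidueField y)] (i j : ℤ) (hi : (c : ℤ) ≤ i) (hij : i < j)
    (h : IsZero (DCoh.HD ((DCoh.Lpull (Y.fromSpecResidueField y)).obj G) i)) :
    IsZero (DCoh.HD ((DCoh.Lpull (Y.fromSpecResidueField y)).obj G) j) := by
  -- an affine chart with a free representative
  obtain ⟨U₀, j₀, _, ⟨z₀, rfl⟩, P₀, a, b, hab, hfree₀, ⟨eE₀⟩⟩ := exists_free_rep hG y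
  obtain ⟨W, hW, hzW, -⟩ := exists_isAffineOpen_mem_and_subset (x := z₀) (U := (⊤ : U₀.Opens)) trivial
  haveI : IsAffine W.toScheme := hW
  let k : W.toScheme ⟶ Y := W.ι ≫ j₀
  haveI : IsLocallyNoetherian W.toScheme := isLocallyNoetherian_of_isOpenImmersion k
  let R := Scheme.Modules.restrictFunctor W.ι
  obtain ⟨n, e, hP, hn⟩ := exists_free_bounded (P := (rCx W.ι).obj P₀)
    (fun l hl => R.map_isZero (hab l hl)) fun l => ⟨(hfree₀ l).choose,
      ⟨R.mapIso (hfree₀ l).choose_spec.some ≪≫ (Scheme.Modules.restrictFunctorIsoPullback W.ι).app _ ≪≫ pullFreeIso _ _⟩⟩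
  let α : DerivedCategory.Q.obj ((rCx W.ι).obj P₀) ≅ (rho k).obj G :=
    ((rhoQ W.ι).app P₀).symm ≪≫ (rho W.ι).mapIso eE₀ ≪≫ rhoComp W.ι j₀ k rfl G
  let V := W.toScheme
  let A := Γ(V, ⊤)
  have hTop : IsAffineOpen (⊤ : V.Opens) := isAffineOpen_top V
  haveI : IsNoetherianRing A := IsLocallyNoetherian.component_noetherian ⟨⊤, hTop⟩
  let B : ∀ x w : ℤ, Matrix (Fin (n w)) (Fin (n x)) A := fun x w => dMat e x w
  -- stalks
  have hloc : ∀ (q : PrimeSpectrum A), ∃ (S : CommRingCat.{u}) (φ : A ⟶ S),
      @IsLocalization.AtPrime A _ S _ φ.hom.toAlgebra q.asIdeal _ ∧ LocCoh.IsCohenMacaulayLocalRing S ∧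
      ∀ (l : ℤ) (m : ℕ), ringKrullDim S = (m : WithBot ℕ∞) → (c : ℤ) + m < l →
        ExC n (fun x w => (B x w).map φ.hom) l := by
    intro q
    let z := hTop.fromSpec q
    refine ⟨V.presheaf.stalk z, V.presheaf.germ ⊤ z trivial, hTop.isLocalization_stalk' q trivial, ?_, ?_⟩
    · haveI := hCM (k.base z)
      exact LC.Liaison.isCMLocal_of_ringEquiv (asIso (k.stalkMap z)).commRingCatIsoToRingEquiv
    · intro l m hm hl p r hp hr
      refine ex0_stalk e z p l r ?_
      haveI : (DerSch.stalkFunctor V z).PreservesHomology :=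
        Functor.preservesHomology_of_map_exact _ fun S hS => (exact_iff_stalk S).1 hS z
      obtain ⟨l', rfl⟩ := Int.eq_ofNat_of_zero_le (show (0 : ℤ) ≤ l by omega)
      have hs : Subsingleton ((DCoh.HD G (l' : ℤ)).presheaf.stalk (k.base z)) := by
        by_contra hne
        have h1 := hGV l' (k.base z) hne
        rw [ringKrullDim_eq_of_ringEquiv (asIso (k.stalkMap z)).commRingCatIsoToRingEquiv, hm] at h1
        have : l' - c ≤ m := by exact_mod_cast h1
        omega
      have hz : IsZero ((DerSch.stalkFunctor V z).obj ((DCoh.HD G (l' : ℤ)).restrict k)) := by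
        refine ModuleCat.isZero_of_iff_subsingleton.2 ?_
        let eAb := (Scheme.Modules.restrictStalkNatIso k z).app (DCoh.HD G (l' : ℤ))
        exact @Equiv.subsingleton _ _ eAb.addCommGroupIsoToAddEquiv.toEquiv hs
      rw [ShortComplex.exact_iff_isZero_homology]
      refine hz.of_iso ((((rCx W.ι).obj P₀).sc' p l' r).mapHomologyIso _ ≪≫ (DerSch.stalkFunctor V z).mapIso
        ((((rCx W.ι).obj P₀).homologyIsoSc' p l' r (by simp; omega) (by simp; omega)).symm ≪≫
        ((DerivedCategory.homologyFunctorFactors _ (l' : ℤ)).app _).symm ≪≫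
        (DerivedCategory.homologyFunctor _ (l' : ℤ)).mapIso α ≪≫ hdRhoIso k G (l' : ℤ)))
  let z : V := ⟨z₀, hzW⟩
  let Q := hTop.primeIdealOf ⟨z, trivial⟩
  let S := V.presheaf.stalk z
  let φ : A →+* S := (V.presheaf.germ ⊤ z trivial).hom
  letI : Algebra A S := φ.toAlgebra
  haveI : IsLocalization.AtPrime S Q.asIdeal := hTop.isLocalization_stalk ⟨z, trivial⟩
  have hsq : ∀ x w v, B w v * B x w = 0 := fun x w v => dMat_mul e x w v
  have hexD : ∀ l, (c : ℤ) < l → ExD n (fun x w => (B x w).map (algebraMap A S)) l := fun l hl =>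
    exD_localization hsq (fun l hl => hn l (Or.inr hl)) c (P := ⊤) (fun q _ _ S' _ _ _ => by
      obtain ⟨T, ψ, hT, hTcm, hTex⟩ := hloc ⟨q, inferInstance⟩
      letI : Algebra A T := ψ.hom.toAlgebra
      haveI := hT
      let ε := (IsLocalization.algEquiv q.primeCompl T S').toRingEquiv
      haveI := hTcm
      haveI : IsLocalRing S' := IsLocalization.AtPrime.isLocalRing S' q
      haveI : IsNoetherianRing S' := IsLocalization.isNoetherianRing q.primeCompl S' inferInstance
      refine ⟨LC.Liaison.isCMLocal_of_ringEquiv ε, fun l m hm hl p r hp hr => ?_⟩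
      rw [← ringKrullDim_eq_of_ringEquiv ε] at hm
      have := ex0_of_ringEquiv ε (hTex l m hm hl p r hp hr)
      simp only [Matrix.map_map] at this
      have hc : (⇑ε ∘ ⇑ψ.hom) = ⇑(algebraMap A S') := funext fun x => (IsLocalization.algEquiv q.primeCompl T S').commutes x
      rw [hc] at this
      exact this) Q.asIdeal le_top S l hl
  -- the pseudo-inverse at the bottom
  have hβ : ∀ l, IsPcMap (l - 1) α.hom := fun l => isPcMap_of_isIso (l - 1) α.hom
  have hkz : k.base z = j₀.base z₀ := rfl
  have hb₀ : PerfD.betti G (j₀.base z₀) i = 0 := by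
    have hz := (DerSch.stalkFunctor (Spec (Y.residueField (j₀.base z₀))) default).map_isZero h
    haveI := ModuleCat.subsingleton_of_isZero hz
    exact (finrank_top_eq_stalk _ default).trans Module.finrank_zero_of_subsingleton
  have hf := betti_formula G (j₀.base z₀) k z hkz hP e α.hom (hβ i) (i - 1) i (i + 1) (by omega) rfl (by omega)
  rw [hb₀] at hf
  obtain ⟨-, hfr, -⟩ := exact_free_stalk z e (i - 1) i (i + 1) (by omega)
  obtain ⟨g, k', hgk, -⟩ := exists_splitting_dual (R := S) (B := fun x w => (B x w).map (algebraMap A S))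
    (fun x w v => by rw [← Matrix.map_mul, hsq, Matrix.map_zero _ (map_zero _)])
    (fun l hl => hexD l (by omega)) (fun h' hh' => by
      subst hh'
      exact exists_pseudoInverse e z i (i + 1) hfr) j hij (j - 1) (j + 1) (by omega) rfl
  -- ranks at the point
  have hrk := le_rank_add_rank (map_splitting (V.residue z).hom hgk)
  simp only [Matrix.map_map] at hrk
  have hf' := betti_formula G (j₀.base z₀) k z hkz hP e α.hom (hβ j) (j - 1) j (j + 1) (by omega) rfl (by omega)
  have hrk' : n j ≤ rkAt (dMat e j (j + 1)) z + rkAt (dMat e (j - 1) j) z := hrk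
  have hbj : PerfD.betti G (j₀.base z₀) j = 0 := by omega
  -- a vanishing dimension is vanishing
  haveI : IsNoetherian (Spec (Y.residueField (j₀.base z₀))) := inferInstance
  have hcoh := (Groth.Agent.S1006.result _ _ (KFlatLib.isPerfect_lpull (Y.fromSpecResidueField (j₀.base z₀)) hG)).1 j
  haveI := hcoh.2
  let M := DCoh.HD ((DCoh.Lpull (Y.fromSpecResidueField (j₀.base z₀))).obj G) j
  let t : Spec (Y.residueField (j₀.base z₀)) := default
  letI := (isField_stalk_spec (Y.residueField (j₀.base z₀)) t).toField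
  have hfin : Module.Finite ((Spec (Y.residueField (j₀.base z₀))).presheaf.stalk t)
      ((DerSch.stalkFunctor _ t).obj M) := FDescent.finite_stalk M t
  haveI := hfin
  haveI : Module.Finite ((Spec (Y.residueField (j₀.base z₀))).presheaf.stalk t) (M.presheaf.stalk t) :=
    FDescent.finite_stalk M t
  haveI : Subsingleton (Spec (Y.residueField (j₀.base z₀))) :=
    inferInstanceAs (Subsingleton (PrimeSpectrum (Y.residueField (j₀.base z₀))))
  refine isZero_of_stalk M fun s => ?_
  obtain rfl := Subsingleton.elim t s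
  exact ModuleCat.isZero_of_iff_subsingleton.2
    (Module.finrank_zero_iff.1 ((finrank_top_eq_stalk M t).symm.trans hbj))

end Groth.Agent.FMKLib7

end
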