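import Groth.Agent.FMKLib7.GVAlg
import Groth.Agent.LC.LiaisonLocal

/-!
# The support condition gives exactness of the dual complex, localizing at primes
-/

set_option autoImplicit false

universe u

open IsLocalRing Matrix

namespace Groth.Agent.FMKLib7

variable {n : ℤ → ℕ}

/-- Transport of exactness along a ring isomorphism. -/
theorem ex0_of_ringEquiv {R S : Type u} [CommRing R] [CommRing S] (e : R ≃+* S) {p q r : ℕ}
    {a : Matrix (Fin p) (Fin q) R} {b : Matrix (Fin q) (Fin r) R} (h : Ex0 a b) :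
    Ex0 (a.map e) (b.map e) := fun v hv => by
  have hf : ∀ {m k : ℕ} (c : Matrix (Fin m) (Fin k) R) (x : Fin k → R),
      (fun s => e ((c *ᵥ x) s)) = c.map e *ᵥ fun t => e (x t) := fun c x =>
    funext fun s => RingHom.map_mulVec (e : R →+* S) c x s
  have hv' : a *ᵥ (fun t => e.symm (v t)) = 0 := funext fun s => e.injective <| by
    have := congrFun ((hf a fun t => e.symm (v t))) s
    simp only [RingEquiv.apply_symm_apply] at this
    rw [this, hv, Pi.zero_apply, Pi.zero_apply, map_zero]
  obtain ⟨w, hw⟩ := h _ hv'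
  refine ⟨fun t => e (w t), funext fun s => ?_⟩
  rw [← congrFun (hf b w) s, hw, RingEquiv.apply_symm_apply]

/-- Exactness at all nonmaximal primes gives torsion cohomology. -/
theorem exists_pow_smul_mem {S : Type u} [CommRing S] [IsLocalRing S] [IsNoetherianRing S] {p q r : ℕ}
    (a : Matrix (Fin p) (Fin q) S) (b : Matrix (Fin q) (Fin r) S)
    (h : ∀ Q : Ideal S, ∀ [Q.IsPrime], Q ≠ maximalIdeal S →
      Ex0 (a.map (algebraMap S (Localization.AtPrime Q))) (b.map (algebraMap S (Localization.AtPrime Q))))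
    (v : Fin q → S) (hv : a *ᵥ v = 0) :
    ∃ M : ℕ, ∀ x ∈ maximalIdeal S ^ M, ∃ w, b *ᵥ w = x • v := by
  let C : Ideal S :=
    { carrier := {x | ∃ w, b *ᵥ w = x • v}
      add_mem' := by
        rintro x y ⟨w, hw⟩ ⟨w', hw'⟩
        exact ⟨w + w', by rw [mulVec_add, hw, hw', add_smul]⟩
      zero_mem' := ⟨0, by simp⟩
      smul_mem' := by
        rintro c x ⟨w, hw⟩
        exact ⟨c • w, by rw [mulVec_smul, hw, smul_eq_mul, mul_smul]⟩ }
  have hrad : maximalIdeal S ≤ C.radical := by
    rw [Ideal.radical_eq_sInf]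
    refine le_sInf fun Q ⟨hCQ, hQ⟩ => ?_
    haveI := hQ
    by_contra hne
    have hQm : Q ≠ maximalIdeal S := fun e => hne e.ge
    let T := Localization.AtPrime Q
    let φ := algebraMap S T
    obtain ⟨w', hw'⟩ := h Q hQm (fun t => φ (v t)) (funext fun s => by
      show (a.map φ *ᵥ φ ∘ v) s = _
      rw [← RingHom.map_mulVec φ a v s, hv, Pi.zero_apply, map_zero, Pi.zero_apply])
    obtain ⟨⟨d, hd⟩, hint⟩ := IsLocalization.exist_integer_multiples_of_finite Q.primeCompl w'
    choose w hw using hint
    have h0 : ∀ s, φ ((b *ᵥ w) s) = φ ((d • v) s) := fun s => by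
      rw [RingHom.map_mulVec φ b w s]
      have : (fun t => φ (w t)) = d • w' := funext fun t => hw t
      rw [show (φ ∘ w) = d • w' from this, mulVec_smul, hw', Pi.smul_apply, Pi.smul_apply, smul_eq_mul, map_mul,
        Algebra.smul_def]
    choose c hc using fun s => (IsLocalization.eq_iff_exists Q.primeCompl T).1 (h0 s)
    have hd' : (∏ s, (c s : S)) * d ∈ Q.primeCompl := mul_mem (prod_mem fun s _ => (c s).2) hd
    refine hd' (hCQ ⟨(∏ s, (c s : S)) • w, funext fun s => ?_⟩)
    obtain ⟨e, he⟩ := Finset.dvd_prod_of_mem (fun s => (c s : S)) (Finset.mem_univ s)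
    rw [mulVec_smul, Pi.smul_apply, Pi.smul_apply, smul_eq_mul, smul_eq_mul, he]
    have := hc s
    rw [Pi.smul_apply, smul_eq_mul] at this
    linear_combination e * this
  obtain ⟨M, hM⟩ := Ideal.exists_pow_le_of_le_radical_of_fg hrad (IsNoetherian.noetherian _)
  exact ⟨M, fun x hx => hM hx⟩

theorem exists_regular_list (S : Type u) [CommRing S] [LocCoh.IsCohenMacaulayLocalRing S] {e : ℕ}
    (he : ringKrullDim S = (e : WithBot ℕ∞)) :
    ∃ rs : List S, RingTheory.Sequence.IsWeaklyRegular S rs ∧ (∀ x ∈ rs, x ∈ maximalIdeal S) ∧ e ≤ rs.length := by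
  by_contra hno
  simp only [not_exists, not_and, not_le] at hno
  have hd : LocCoh.depth S S = (e : ℕ∞) := by
    have h := LocCoh.IsCohenMacaulayLocalRing.supportDim_eq_depth (R := S)
    rw [Module.supportDim_self_eq_ringKrullDim, he] at h
    exact_mod_cast h.symm
  have hne : maximalIdeal S • (⊤ : Submodule S S) ≠ ⊤ := by
    rw [smul_eq_mul, Ideal.mul_top]
    exact (maximalIdeal.isMaximal S).ne_top
  rw [LocCoh.depth, LocCoh.idealDepth, if_neg hne] at hd
  rcases e with _ | e
  · exact absurd (hno [] (RingTheory.Sequence.IsWeaklyRegular.nil S S) (by simp)) (by simp)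
  · have hle : (⨆ (rs : List S) (_ : RingTheory.Sequence.IsWeaklyRegular S rs ∧ ∀ r ∈ rs, r ∈ maximalIdeal S),
        (rs.length : ℕ∞)) ≤ (e : ℕ∞) := iSup₂_le fun rs h => by
      exact_mod_cast Nat.le_of_lt_succ (hno rs h.1 h.2)
    rw [hd] at hle
    have : e + 1 ≤ e := by exact_mod_cast hle
    omega

section Loc

variable {A : Type u} [CommRing A] [IsNoetherianRing A] {B : ∀ i j : ℤ, Matrix (Fin (n j)) (Fin (n i)) A}
  {P : Ideal A}

/-- The support condition at all primes below `P` makes the dual complex exact above `c` at `P`. -/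
theorem exD_localization (hsq : ∀ i j k, B j k * B i j = 0) {b : ℤ} (hb : ∀ i, b < i → n i = 0) (c : ℤ)
    (H : ∀ (Q : Ideal A) [Q.IsPrime], Q ≤ P → ∀ (S : Type u) [CommRing S] [Algebra A S]
      [IsLocalization.AtPrime S Q], LocCoh.IsCohenMacaulayLocalRing S ∧
        ∀ (i : ℤ) (e : ℕ), ringKrullDim S = (e : WithBot ℕ∞) → c + e < i →
          ExC n (fun x y => (B x y).map (algebraMap A S)) i)
    (Q : Ideal A) [Q.IsPrime] (hQ : Q ≤ P) (S : Type u) [CommRing S] [Algebra A S] [IsLocalization.AtPrime S Q]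
    (i : ℤ) (hi : c < i) : ExD n (fun x y => (B x y).map (algebraMap A S)) i := by
  suffices key : ∀ (t : ℕ) (Q : Ideal A) [Q.IsPrime], Q ≤ P → ∀ (S : Type u) [CommRing S] [Algebra A S]
      [IsLocalization.AtPrime S Q], ringKrullDim S < (t : WithBot ℕ∞) → ∀ i, c < i →
        ExD n (fun x y => (B x y).map (algebraMap A S)) i by
    haveI := (H Q hQ S).1
    obtain ⟨e, he⟩ : ∃ e : ℕ, ringKrullDim S = (e : WithBot ℕ∞) := by
      obtain ⟨e, he⟩ := LC.exists_supportDim_eq_nat (R := S) S
      exact ⟨e, by rw [← Module.supportDim_self_eq_ringKrullDim, he]⟩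
    exact key (e + 1) Q hQ S (by rw [he]; exact_mod_cast Nat.lt_succ_self e) i hi
  intro t
  induction t with
  | zero =>
    intro Q _ hQ S _ _ _ ht
    haveI := (H Q hQ S).1
    exact absurd ht (not_lt.2 ringKrullDim_nonneg_of_nontrivial)
  | succ t ih =>
    intro Q _ hQ S _ _ _ ht i hi
    obtain ⟨hCM, hS⟩ := H Q hQ S
    haveI := hCM
    obtain ⟨e, he⟩ : ∃ e : ℕ, ringKrullDim S = (e : WithBot ℕ∞) := by
      obtain ⟨e, he⟩ := LC.exists_supportDim_eq_nat (R := S) S
      exact ⟨e, by rw [← Module.supportDim_self_eq_ringKrullDim, he]⟩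
    let φ := algebraMap A S
    let BS : ∀ i j : ℤ, Matrix (Fin (n j)) (Fin (n i)) S := fun x y => (B x y).map φ
    have hsqS : ∀ i j k, BS j k * BS i j = 0 := fun i j k => by
      simp only [BS]
      rw [← Matrix.map_mul, hsq, Matrix.map_zero φ (map_zero φ)]
    have hsplit : ∀ j, c + e < j → SplitAt n BS j :=
      splitAt_of_exC hsqS hb fun j hj => hS j e he hj
    obtain ⟨rs, hrs, hmem, hlen⟩ := exists_regular_list S he
    have hrs' := hrs
    refine exD_of_regular hsqS (N := c + e) (rs.take e) ?_ (fun x hx => hmem x (List.mem_of_mem_take hx))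
      (fun I j l h hj hl hh => ?_) (fun j l h hj hl hh v hv => ?_) i ?_
    · rw [← List.take_append_drop e rs] at hrs'
      exact ((RingTheory.Sequence.isWeaklyRegular_append_iff S _ _).1 hrs').1
    · obtain ⟨g, k, hgk, -⟩ := hsplit j hj l h hl hh
      exact exMod_dual_of_splitting hgk I
    · refine exists_pow_smul_mem _ _ (fun Q' _ hQ' => ?_) v hv
      let T := Localization.AtPrime Q'
      haveI : IsLocalization.AtPrime T (Q'.comap (algebraMap A S)) :=
        IsLocalization.isLocalization_isLocalization_atPrime_isLocalization Q.primeCompl (S := S) T Q'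
      have hle : Q'.comap (algebraMap A S) ≤ Q := by
        intro x hx
        by_contra hxQ
        exact ‹Q'.IsPrime›.ne_top (Ideal.eq_top_of_isUnit_mem _ hx
          (IsLocalization.map_units S (⟨x, hxQ⟩ : Q.primeCompl)))
      have hdim : ringKrullDim T < (t : WithBot ℕ∞) := by
        rw [IsLocalization.AtPrime.ringKrullDim_eq_height Q' T]
        haveI : (maximalIdeal S).FiniteHeight := inferInstance
        have hlt : Q'.height < (maximalIdeal S).height :=
          Ideal.height_strict_mono_of_isPrime_of_isPrime (lt_of_le_of_ne (le_maximalIdeal ‹Q'.IsPrime›.ne_top) hQ')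
        rw [← IsLocalRing.maximalIdeal_height_eq_ringKrullDim] at he ht
        have he' : (maximalIdeal S).height = (e : ℕ∞) := by exact_mod_cast he
        rw [he'] at hlt ht
        obtain ⟨m, hm⟩ := ENat.ne_top_iff_exists.1 hlt.ne_top
        rw [← hm] at hlt ⊢
        have h1 : m < e := by exact_mod_cast hlt
        have h2 : e < t + 1 := by exact_mod_cast ht
        exact_mod_cast (by omega : m < t)
      have key := ih (Q'.comap (algebraMap A S)) (hle.trans hQ) T hdim j (by simp at hj; omega) l h hl hh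
      rw [← transpose_map, ← transpose_map]
      simp only [BS, Matrix.map_map]
      exact key
    · simp [List.length_take, min_eq_left hlen]
      omega

end Loc

end Groth.Agent.FMKLib7
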