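import Groth.Agent.KFlatLib.Scheme.RGammaPush
import Groth.Agent.KFlatLib.Scheme.Exact
import Groth.Agent.PerfGen7.RpushCoh
import Groth.Agent.AmpleHom7.Gamma
import Groth.Agent.ProjTwists7.Twist
import Groth.Agent.CohD7.QCoh
import Groth.Agent.ProjGen7.RpushTwist
import Groth.Agent.KFlatLib.Scheme.QCohTensor
import Groth.Agent.AmpleX.Generated
import Groth.Agent.AmpleX.Separated
import Groth.Agent.S0051
import Groth.Agent.S2325
import Mathlib.Algebra.Category.ModuleCat.Sheaf.Free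

/-!
# Hypercohomology of a bounded coherent complex after a large twist
-/

set_option autoImplicit false
set_option linter.style.haveILetI false
set_option backward.isDefEq.respectTransparency false
set_option backward.isDefEq.respectTransparency.types false

universe u

open CategoryTheory CategoryTheory.Limits AlgebraicGeometry Opposite Pretriangulated

attribute [local instance] HasDerivedCategory.standard

noncomputable section

namespace Groth.Agent.FMKLib7

open Groth.Agent.KFlatLib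

/-- Existence of `RΓ`. -/
theorem hasRΓ (X : Scheme.{u}) : DCoh.HasRΓ X := by
  haveI := TriCat.qh_isLeftAdjoint_of_exists_resolution (A := X.Modules) KFlatLib.exists_kInjective_res
  let adjQ := Adjunction.ofIsLeftAdjoint (DerivedCategory.Qh (C := X.Modules))
  let W := HomotopyCategory.quasiIso X.Modules (ComplexShape.up ℤ)
  have hd := TriCat.isRightDerivedFunctor_of_adjunction adjQ W (DCoh.gammaKh X)
  exact Functor.HasRightDerivedFunctor.mk' (L := DerivedCategory.Qh)
    (DerivedCategory.Qh.rightAdjoint ⋙ DCoh.gammaKh X)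
    (Functor.whiskerRight adjQ.unit (DCoh.gammaKh X)) (W := W)

section OnePoint

variable {S : Scheme.{u}} [Subsingleton S] (x : S)

theorem eq_top_of_mem {U : S.Opens} (h : x ∈ U) : U = ⊤ :=
  top_le_iff.1 fun y _ => Subsingleton.elim x y ▸ h

/-- On a one-point scheme global sections are the stalk. -/
theorem bijective_germ_top (M : S.Modules) : Function.Bijective (M.presheaf.germ (⊤ : S.Opens) x trivial) := by
  constructor
  · intro s t hst
    obtain ⟨W, hW, i, j, h⟩ := M.presheaf.germ_eq x (show x ∈ (⊤ : S.Opens) from trivial) (show x ∈ (⊤ : S.Opens) from trivial) s t hst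
    obtain rfl := eq_top_of_mem x hW
    rw [show i = 𝟙 _ from Subsingleton.elim _ _, show j = 𝟙 _ from Subsingleton.elim _ _, op_id] at h
    simpa using h
  · intro m
    obtain ⟨U, hU, s, rfl⟩ := M.presheaf.exists_germ_eq m
    obtain rfl := eq_top_of_mem x hU
    exact ⟨s, rfl⟩

/-- Global sections on a one-point scheme as the stalk functor. -/
def gammaIso : DerSch.stalkFunctor S x ⋙ forget₂ (ModuleCat.{u} (S.presheaf.stalk x)) AddCommGrpCat.{u} ≅ DCoh.gammaAb S :=
  (NatIso.ofComponents (fun M => (AddEquiv.ofBijective (M.presheaf.germ (⊤ : S.Opens) x trivial).hom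
      (bijective_germ_top x M)).toAddCommGrpIso)
    (fun {M N} φ => by
      ext s
      exact (DerSch.stalkFunctor_map_germ x φ ⊤ trivial s).symm)).symm

include x in
/-- On a one-point scheme `RΓ` detects vanishing of cohomology sheaves. -/
theorem isZero_RΓ_onePoint [DCoh.HasRΓ S] (G : DCoh.D S) (i : ℤ) :
    IsZero ((DerivedCategory.homologyFunctor AddCommGrpCat.{u} i).obj ((DCoh.RΓ S).obj G)) ↔
      IsZero (DCoh.HD G i) := by
  obtain ⟨I, s, hI, hs⟩ := exists_kInjective_res (DerivedCategory.Q.objPreimage G)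
  haveI := hI; haveI := hs
  haveI : IsIso (DerivedCategory.Q.map s) := (DerivedCategory.isIso_Q_map_iff_quasiIso _ _).2 inferInstance
  let eG : DerivedCategory.Q.obj I ≅ G :=
    (asIso (DerivedCategory.Q.map s)).symm ≪≫ DerivedCategory.Q.objObjPreimageIso G
  obtain ⟨eΓ⟩ := AmpleHom7.nonempty_RΓ_iso I
  let T := DerSch.stalkFunctor S x
  let U := forget₂ (ModuleCat.{u} (S.presheaf.stalk x)) AddCommGrpCat.{u}
  haveI : T.PreservesHomology := inferInstance
  let c := ComplexShape.up ℤ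
  let e : (DerivedCategory.homologyFunctor AddCommGrpCat.{u} i).obj ((DCoh.RΓ S).obj G) ≅
      U.obj (T.obj (DCoh.HD G i)) :=
    (DerivedCategory.homologyFunctor _ i).mapIso ((DCoh.RΓ S).mapIso eG.symm ≪≫ eΓ) ≪≫
      (DerivedCategory.homologyFunctorFactors AddCommGrpCat.{u} i).app _ ≪≫
      (HomologicalComplex.homologyFunctor AddCommGrpCat.{u} c i).mapIso
        ((NatIso.mapHomologicalComplex (gammaIso x) c).app I).symm ≪≫
      (I.sc i).mapHomologyIso (T ⋙ U) ≪≫
      (T ⋙ U).mapIso (((DerivedCategory.homologyFunctorFactors S.Modules i).app I).symm ≪≫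
        (DerivedCategory.homologyFunctor _ i).mapIso eG)
  refine ⟨fun h => KFlatLib.isZero_of_stalk _ fun y => ?_, fun h => ((T ⋙ U).map_isZero h).of_iso e⟩
  obtain rfl := Subsingleton.elim x y
  have h' := h.of_iso e.symm
  rw [IsZero.iff_id_eq_zero] at h' ⊢
  refine U.map_injective ?_
  rwa [U.map_id, U.map_zero]

end OnePoint

/-- Hypercohomology over a field as cohomology of the direct image. -/
theorem isZero_hyper_iff {Y S : Scheme.{u}} [Subsingleton S] (x : S) (b : Y ⟶ S) [DCoh.HasRΓ Y] [DCoh.HasRpush b]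
    (G : DCoh.D Y) (i : ℤ) :
    IsZero ((DerivedCategory.homologyFunctor AddCommGrpCat.{u} i).obj ((DCoh.RΓ Y).obj G)) ↔
      IsZero (DCoh.HD ((DCoh.Rpush b).obj G) i) := by
  haveI := hasRΓ S
  obtain ⟨e⟩ := nonempty_rpush_RΓ_iso b
  rw [← isZero_RΓ_onePoint x]
  exact Iso.isZero_iff ((DerivedCategory.homologyFunctor _ i).mapIso (e.app G).symm)

section Devissage

variable {X S : Scheme.{u}} (f : X ⟶ S) [DCoh.HasRpush f] [HasInjectiveResolutions X.Modules]

theorem isGE_low {T : Triangle (DCoh.D X)} {a c : ℤ} [T.obj₂.IsGE a] [T.obj₁.IsLE c]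
    (e₁ : ∀ i, i ≤ c → Nonempty (DCoh.HD T.obj₁ i ≅ DCoh.HD T.obj₂ i)) : T.obj₁.IsGE a := by
  rw [DerivedCategory.isGE_iff]
  intro i hi
  by_cases h : i ≤ c
  · exact (DerivedCategory.isZero_of_isGE T.obj₂ a i hi).of_iso (e₁ i h).some
  · exact DerivedCategory.isZero_of_isLE T.obj₁ c i (by omega)

theorem isLE_high {T : Triangle (DCoh.D X)} {b c : ℤ} [T.obj₂.IsLE b] [T.obj₃.IsGE (c + 1)]
    (e₃ : ∀ i, c < i → Nonempty (DCoh.HD T.obj₃ i ≅ DCoh.HD T.obj₂ i)) : T.obj₃.IsLE b := by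
  rw [DerivedCategory.isLE_iff]
  intro i hi
  by_cases h : c < i
  · exact (DerivedCategory.isZero_of_isLE T.obj₂ b i hi).of_iso (e₃ i h).some
  · exact DerivedCategory.isZero_of_isGE T.obj₃ (c + 1) i (by omega)

/-- The direct image of an object in a single degree. -/
theorem nonempty_hd_rpush_pure (K : DCoh.D X) (a : ℤ) [K.IsGE a] [K.IsLE a] (n : ℕ) (i : ℤ) (hn : a + n = i) :
    Nonempty (DCoh.HD ((DCoh.Rpush f).obj K) i ≅ (Coh.Rpush f n).obj (DCoh.HD K a)) := by
  obtain ⟨M, ⟨e⟩⟩ := DerivedCategory.exists_iso_singleFunctor_obj_of_isGE_of_isLE K a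
  let es : K ≅ (DCoh.inD X M)⟦(-a : ℤ)⟧ :=
    e ≪≫ (((DerivedCategory.singleFunctors X.Modules).shiftIso (-a) a 0 (by omega)).app M).symm
  obtain ⟨eS⟩ := nonempty_rpush_shift f (DCoh.inD X M) (-a)
  obtain ⟨eN⟩ := nonempty_hd_rpush_single f M n
  exact ⟨(DerivedCategory.homologyFunctor S.Modules i).mapIso ((DCoh.Rpush f).mapIso es ≪≫ eS) ≪≫
    ((DerivedCategory.homologyFunctor S.Modules 0).shiftIso (-a) i (n : ℤ) (by omega)).app _ ≪≫ eN ≪≫
    (Coh.Rpush f n).mapIso (((DerivedCategory.homologyFunctor X.Modules a).mapIso e ≪≫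
      (DerivedCategory.singleFunctorCompHomologyFunctorIso X.Modules a).app M).symm)⟩

/-- Vanishing of the cohomology of the direct image from the hypercohomology spectral sequence. -/
theorem isZero_hd_rpush : ∀ (m : ℕ) (a : ℤ) (K : DCoh.D X), K.IsGE a → K.IsLE (a + m) → ∀ i : ℤ,
    (∀ (p : ℕ) (q : ℤ), q + p = i → IsZero ((Coh.Rpush f p).obj (DCoh.HD K q))) →
    IsZero (DCoh.HD ((DCoh.Rpush f).obj K) i) := by
  intro m
  induction m with
  | zero =>
    intro a K hge hle i h
    haveI := hge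
    haveI : K.IsLE a := by simpa using hle
    rcases lt_or_ge i a with hi | hi
    · exact isZero_hd_rpush_of_lt f K a i hi
    · obtain ⟨n, hn⟩ := Int.eq_ofNat_of_zero_le (sub_nonneg.2 hi)
      obtain ⟨e⟩ := nonempty_hd_rpush_pure f K a n i (by omega)
      exact (h n a (by omega)).of_iso e
  | succ m ih =>
    intro a K hge hle i h
    haveI := hge
    haveI := hle
    obtain ⟨T, hT, rfl, h₁le, h₃ge, e₁, e₃⟩ := PerfGen7.exists_split K a
    haveI := h₁le
    haveI := h₃ge
    haveI h₁ge : T.obj₁.IsGE a := isGE_low e₁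
    haveI h₃le : T.obj₃.IsLE (a + (m + 1 : ℕ)) := isLE_high e₃
    obtain ⟨c, hc⟩ := exists_rpush_triangle f T hT
    refine ((DerivedCategory.HomologySequence.exact₂ _ hc i)).isZero_X₂
      ((ih a T.obj₁ h₁ge (DerivedCategory.TStructure.t.isLE_of_le _ a _ (by omega)) i fun p q hpq => ?_).eq_of_src _ _)
      ((ih (a + 1) T.obj₃ h₃ge (DerivedCategory.TStructure.t.isLE_of_le _ (a + (m + 1 : ℕ)) _
        (by push_cast; omega)) i fun p q hpq => ?_).eq_of_tgt _ _)
    · by_cases hq : q ≤ a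
      · exact (h p q hpq).of_iso ((Coh.Rpush f p).mapIso (e₁ q hq).some)
      · exact (Coh.Rpush f p).map_isZero (DerivedCategory.isZero_of_isLE T.obj₁ a q (by omega))
    · by_cases hq : a < q
      · exact (h p q hpq).of_iso ((Coh.Rpush f p).mapIso (e₃ q hq).some)
      · exact (Coh.Rpush f p).map_isZero (DerivedCategory.isZero_of_isGE T.obj₃ (a + 1) q (by omega))

theorem isZero_hd_rpush' (K : DCoh.D X) (a b : ℤ) [K.IsGE a] [K.IsLE b] (i : ℤ)
    (h : ∀ (p : ℕ) (q : ℤ), q + p = i → IsZero ((Coh.Rpush f p).obj (DCoh.HD K q))) :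
    IsZero (DCoh.HD ((DCoh.Rpush f).obj K) i) :=
  isZero_hd_rpush f (b - a).toNat a K ‹_› (DerivedCategory.TStructure.t.isLE_of_le _ b _ (by omega)) i h

/-- If the higher direct images of the cohomology sheaves vanish, `H^i (Rf_* K) = f_* H^i K`. -/
theorem nonempty_hd_rpush_degenerate (K : DCoh.D X) (a b : ℤ) [K.IsGE a] [K.IsLE b]
    (h : ∀ (p : ℕ) (q : ℤ), 0 < p → IsZero ((Coh.Rpush f p).obj (DCoh.HD K q))) (i : ℤ) :
    Nonempty (DCoh.HD ((DCoh.Rpush f).obj K) i ≅ (Coh.Rpush f 0).obj (DCoh.HD K i)) := by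
  obtain ⟨T, hT, rfl, h₁le, h₃ge, e₁, e₃⟩ := PerfGen7.exists_split K i
  haveI := h₁le
  haveI := h₃ge
  haveI h₁ge : T.obj₁.IsGE a := isGE_low e₁
  obtain ⟨c, hc⟩ := exists_rpush_triangle f T hT
  let H := DerivedCategory.homologyFunctor S.Modules i
  haveI : Epi (H.map ((DCoh.Rpush f).map T.mor₁)) := (DerivedCategory.HomologySequence.exact₂ _ hc i).epi_f
    ((isZero_hd_rpush_of_lt f T.obj₃ (i + 1) i (by omega)).eq_of_tgt _ _)
  haveI : Mono (H.map ((DCoh.Rpush f).map T.mor₁)) :=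
    (DerivedCategory.HomologySequence.exact₁ _ hc (i - 1) i (by omega)).mono_g
      ((isZero_hd_rpush_of_lt f T.obj₃ (i + 1) (i - 1) (by omega)).eq_of_src _ _)
  haveI := isIso_of_mono_of_epi (H.map ((DCoh.Rpush f).map T.mor₁))
  have h' : ∀ (p : ℕ) (q : ℤ), 0 < p → IsZero ((Coh.Rpush f p).obj (DCoh.HD T.obj₁ q)) := fun p q hp => by
    by_cases hq : q ≤ i
    · exact (h p q hp).of_iso ((Coh.Rpush f p).mapIso (e₁ q hq).some)
    · exact (Coh.Rpush f p).map_isZero (DerivedCategory.isZero_of_isLE T.obj₁ i q (by omega))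
  obtain ⟨T', hT', hT₂, h₁le', h₃ge', f₁, f₃⟩ := PerfGen7.exists_split T.obj₁ (i - 1)
  haveI := h₁le'
  haveI : T'.obj₃.IsGE i := by simpa using h₃ge'
  haveI : T'.obj₂.IsGE a := hT₂ ▸ h₁ge
  haveI : T'.obj₂.IsLE i := hT₂ ▸ h₁le
  haveI h₁ge' : T'.obj₁.IsGE a := isGE_low (c := i - 1) (hT₂ ▸ f₁)
  haveI h₃le' : T'.obj₃.IsLE i := by
    haveI := h₃ge'
    exact isLE_high (c := i - 1) (hT₂ ▸ f₃)
  obtain ⟨c', hc'⟩ := exists_rpush_triangle f T' hT'
  have hz : ∀ j, i ≤ j → IsZero (DCoh.HD ((DCoh.Rpush f).obj T'.obj₁) j) := fun j hj =>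
    isZero_hd_rpush' f T'.obj₁ a (i - 1) j fun p q hpq => by
      by_cases hq : q ≤ i - 1
      · exact (h' p q (by omega)).of_iso ((Coh.Rpush f p).mapIso (f₁ q hq).some)
      · exact (Coh.Rpush f p).map_isZero (DerivedCategory.isZero_of_isLE T'.obj₁ (i - 1) q (by omega))
  haveI : Mono (H.map ((DCoh.Rpush f).map T'.mor₂)) := (DerivedCategory.HomologySequence.exact₂ _ hc' i).mono_g
    ((hz i le_rfl).eq_of_src _ _)
  haveI : Epi (H.map ((DCoh.Rpush f).map T'.mor₂)) := (DerivedCategory.HomologySequence.exact₃ _ hc' i (i + 1) rfl).epi_f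
    ((hz (i + 1) (by omega)).eq_of_tgt _ _)
  haveI := isIso_of_mono_of_epi (H.map ((DCoh.Rpush f).map T'.mor₂))
  obtain ⟨eP⟩ := nonempty_hd_rpush_pure f T'.obj₃ i 0 i (by simp)
  exact ⟨(asIso (H.map ((DCoh.Rpush f).map T.mor₁))).symm ≪≫
    H.mapIso ((DCoh.Rpush f).mapIso (eqToIso hT₂.symm)) ≪≫ asIso (H.map ((DCoh.Rpush f).map T'.mor₂)) ≪≫ eP ≪≫
    (Coh.Rpush f 0).mapIso ((f₃ i (by omega)).some ≪≫ (e₁ i le_rfl).some)⟩

end Devissage

section Twist

variable {Y : Scheme.{u}}

/-- A globally generated module without global sections is zero. -/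
theorem isZero_of_generated {M : Y.Modules} (hM : Curv2.IsGloballyGenerated M)
    (h : Subsingleton Γ(M, (⊤ : Y.Opens))) : IsZero M := by
  obtain ⟨ι, p, hp⟩ := hM
  have hp0 : p = 0 := (SheafOfModules.freeHomEquiv M).injective (funext fun j => Subtype.ext (funext fun U => by
    rw [← ((SheafOfModules.freeHomEquiv M p) j).property (homOfLE (le_top : U.unop ≤ ⊤)).op,
      ← ((SheafOfModules.freeHomEquiv M (0 : (SheafOfModules.free ι : Y.Modules) ⟶ M)) j).property
        (homOfLE (le_top : U.unop ≤ ⊤)).op]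
    exact congrArg _ (h.elim _ _)))
  subst hp0
  exact @IsZero.of_epi_zero _ _ _ (SheafOfModules.free ι : Y.Modules) M hp

/-- Large twists of a bounded coherent object: the cohomology sheaves are read off from hypercohomology. -/
theorem exists_twist_hyper {k : Type u} [Field k] (b : Y ⟶ Spec (CommRingCat.of k)) [IsProper b] {L : Y.Modules}
    (hL : CohB1.IsAmple L) [DCoh.HasRΓ Y] (G : DCoh.D Y) (hG : DCoh.IsCohD G) (lo hi : ℤ) [G.IsGE lo] [G.IsLE hi] :
    ∃ n₀ : ℕ, ∀ n : ℕ, n₀ ≤ n → ∀ i : ℤ,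
      (IsZero (DCoh.HD G i) ↔ IsZero ((DerivedCategory.homologyFunctor AddCommGrpCat.{u} i).obj
        ((DCoh.RΓ Y).obj ((ProjTwists7.twD (InvX.isInvertible_tensorPow hL.1 n)).obj G)))) := by
  haveI := hL.2.1
  haveI : Y.IsSeparated := AmpleX.isSeparated_of_isAmple hL
  haveI : HasInjectiveResolutions Y.Modules := hasInjectiveResolutions_modules
  haveI := hasRpush_scheme b
  have hv := (Groth.Agent.S0051.result k Y b L hL.1).1 hL
  choose v hv using fun q => hv (DCoh.HD G q) (hG q)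
  choose w hw using fun q => Groth.Agent.S2325.result Y L hL (DCoh.HD G q) (hG q)
  refine ⟨(Finset.Icc lo hi).sup fun q => max (v q) (w q), fun n hn i => ?_⟩
  let hP := InvX.isInvertible_tensorPow hL.1 n
  haveI := AmpleVan.isEquivalence_tw hP
  let T := AmpleVan.tw (CohB1.tensorPow L n)
  let K := (ProjTwists7.twD hP).obj G
  haveI : K.IsGE lo := CohD7.isGE_map T G lo ‹_›
  haveI : K.IsLE hi := CohD7.isLE_map T G hi ‹_›
  have hbd : ∀ q, IsZero (DCoh.HD G q) ∨ (v q ≤ n ∧ w q ≤ n) := fun q => by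
    by_cases hq : q ∈ Finset.Icc lo hi
    · have := (Finset.le_sup (f := fun q => max (v q) (w q)) hq).trans hn
      exact Or.inr ⟨le_trans (le_max_left _ _) this, le_trans (le_max_right _ _) this⟩
    · rw [Finset.mem_Icc, not_and_or, not_le, not_le] at hq
      exact Or.inl (hq.elim (fun h => DerivedCategory.isZero_of_isGE G lo q h) (fun h => DerivedCategory.isZero_of_isLE G hi q h))
  have eK : ∀ q, Nonempty (DCoh.HD K q ≅ T.obj (DCoh.HD G q)) := CohD7.exists_homologyIso T G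
  have hvan : ∀ (p : ℕ) (q : ℤ), 0 < p → IsZero ((Coh.Rpush b p).obj (DCoh.HD K q)) := fun p q hp => by
    refine IsZero.of_iso ?_ ((Coh.Rpush b p).mapIso (eK q).some)
    rcases hbd q with h | ⟨h, -⟩
    · exact (Coh.Rpush b p).map_isZero (T.map_isZero h)
    · obtain ⟨p', rfl⟩ := Nat.exists_eq_add_of_le' (show 1 ≤ p from hp)
      exact ProjGen7.isZero_Rpush_succ b (KFlatLib.isQCoh_tensor (hG q).1 (ProjUPX.isQCoh_of_isInvertible hP)) p'
        (hv q n h _ (Nat.succ_pos _))
  obtain ⟨eD⟩ := nonempty_hd_rpush_degenerate b K lo hi hvan i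
  rw [isZero_hyper_iff (default : PrimeSpectrum k) b K i, eD.isZero_iff]
  refine ⟨fun h => (Coh.Rpush b 0).map_isZero ((T.map_isZero h).of_iso (eK i).some), fun h => ?_⟩
  have h₁ : IsZero ((Scheme.Modules.pushforward b).obj (T.obj (DCoh.HD G i))) :=
    h.of_iso (((Coh.Rpush b 0).mapIso (eK i).some ≪≫
      ((Scheme.Modules.pushforward b).rightDerivedZeroIsoSelf).app _).symm)
  rcases hbd i with h' | ⟨-, h'⟩
  · exact h'
  have hT : IsZero (T.obj (DCoh.HD G i)) := isZero_of_generated (hw i n h')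
    (AddCommGrpCat.subsingleton_of_isZero ((DCoh.gammaAb (Spec (CommRingCat.of k))).map_isZero h₁))
  rw [IsZero.iff_id_eq_zero] at hT ⊢
  refine T.map_injective ?_
  rwa [T.map_id, T.map_zero]

end Twist

end Groth.Agent.FMKLib7

end
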