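import Groth.Agent.FMKLib7.Hyper
import Groth.Agent.KFlatLib.Perfect.Basic
import Groth.Agent.DerBC7.FlatPerfect
import Groth.Agent.S0962
import Groth.Agent.S1006
import Groth.Agent.S16375
import Groth.Agent.PerfGen7.PushSupp
import Groth.Agent.AssLib.FlatField

/-!
# Generic vanishing criterion for Fourier–Mukai transforms
-/

set_option autoImplicit false
set_option linter.style.haveILetI false
set_option backward.isDefEq.respectTransparency false
set_option backward.isDefEq.respectTransparency.types false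

universe u

open CategoryTheory CategoryTheory.Limits AlgebraicGeometry
open FMK

attribute [local instance] HasDerivedCategory.standard

noncomputable section

namespace Groth.Agent.FMKLib7

open Groth.Agent.KFlatLib

/-- Fourier–Mukai transforms with perfect kernel preserve perfect objects. -/
theorem isPerfect_phi {k : Type u} [Field k] {X Y : Scheme.{u}} (a : X ⟶ Spec (CommRingCat.of k))
    (b : Y ⟶ Spec (CommRingCat.of k)) [IsProper a] [IsProper b]
    (P : CochainComplex (pullback a b).Modules ℤ) (hP : DCoh.IsPerfect (DCoh.toD (pullback a b) P))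
    [DCoh.HasLpull (pullback.fst a b)] [DCoh.HasLTensorCx P] [DCoh.HasRpush (pullback.snd a b)]
    {E : DCoh.D X} (hE : DCoh.IsPerfect E) : DCoh.IsPerfect ((FMK.phi a b P).obj E) := by
  haveI : Flat a := AssLib.flat_over_field a
  let q := pullback.snd a b
  haveI : IsProper q := inferInstance
  haveI : Flat q := inferInstance
  haveI : IsLocallyNoetherian (Spec (CommRingCat.of k)) := inferInstance
  haveI : LocallyOfFinitePresentation a := inferInstance
  haveI : LocallyOfFinitePresentation q := inferInstance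
  let Pk := (kRes (pullback a b)).obj P
  haveI := hasLTensorCx Pk
  let eP : DCoh.toD _ Pk ≅ DCoh.toD _ P := (resQIso _).app P
  obtain ⟨cP⟩ := nonempty_LTensorCx_congr_D eP
  let M := (DCoh.Lpull (pullback.fst a b)).obj E
  have hM : DCoh.IsPerfect M := KFlatLib.isPerfect_lpull _ hE
  have h₁ : DCoh.IsPerfect ((DCoh.LTensorCx Pk).obj M) :=
    Groth.Agent.S0962.result Pk (isKFlat_kRes _) (PerfGen7.isPerfect_of_iso' eP.symm hP) M hM
  have h₂ : DCoh.IsPerfect ((DCoh.LTensorCx P).obj M) := PerfGen7.isPerfect_of_iso' (cP.app M) h₁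
  exact DerBC7.isPerfect_rpush (E := (DCoh.LTensorCx P).obj M) q h₂

/-- Vanishing of the cohomology sheaves of `Φ(F)` is vanishing of `H^i(X, Ψ(L^n) ⊗ F)` for large `n`. -/
theorem exists_criterion (k : Type u) [Field k] [IsAlgClosed k]
    (X Y : Scheme.{u}) (a : X ⟶ Spec (CommRingCat.of k)) (b : Y ⟶ Spec (CommRingCat.of k)) [IsProper a] [IsProper b]
    (P : CochainComplex (pullback a b).Modules ℤ) (hP : DCoh.IsPerfect (DCoh.toD (pullback a b) P))
    [DCoh.HasLpull (pullback.fst a b)] [DCoh.HasLpull (pullback.snd a b)] [DCoh.HasLTensorCx P]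
    [DCoh.HasRpush (pullback.fst a b)] [DCoh.HasRpush (pullback.snd a b)] [DCoh.HasRΓ X]
    (L : Y.Modules) (hL : CohB1.IsAmple L)
    (F : CochainComplex X.Modules ℤ) (hF : DCoh.IsPerfect (DCoh.toD X F)) [DCoh.HasLTensorCx F] :
    ∃ n₀ : ℕ, ∀ n : ℕ, n₀ ≤ n → ∀ i : ℤ,
      (IsZero (DCoh.HD ((FMK.phi a b P).obj (DCoh.toD X F)) i) ↔
        IsZero ((DerivedCategory.homologyFunctor AddCommGrpCat.{u} i).obj ((DCoh.RΓ X).obj
          ((DCoh.LTensorCx F).obj ((DCoh.Lpull (pullback.snd a b) ⋙ DCoh.LTensorCx P ⋙ DCoh.Rpush (pullback.fst a b)).obj (DCoh.inD Y (CohB1.tensorPow L n))))))) := by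
  haveI := hasRΓ Y
  haveI := hL.2.1
  haveI : IsLocallyNoetherian Y := LocallyOfFiniteType.isLocallyNoetherian b
  haveI : IsNoetherian Y := {}
  obtain ⟨hc, lo, hi, hlo, hhi⟩ := Groth.Agent.S1006.result Y _ (isPerfect_phi a b P hP hF)
  haveI := hlo
  haveI := hhi
  obtain ⟨n₀, hn₀⟩ := exists_twist_hyper b hL ((FMK.phi a b P).obj (DCoh.toD X F)) hc lo hi
  refine ⟨n₀, fun n hn i => (hn₀ n hn i).trans ?_⟩
  let N := CohB1.tensorPow L n
  have hN : PicF.IsInvertible N := InvX.isInvertible_tensorPow hL.1 n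
  haveI := hasLTensorMod N
  haveI := hasLTensorCx (PerfGen7.degZero N)
  let eN : DCoh.inD Y N ≅ DCoh.toD Y (PerfGen7.degZero N) := (DerivedCategory.singleFunctorIsoCompQ _ 0).app N
  obtain ⟨e⟩ := Groth.Agent.S16375.result k X Y a b P F hF (PerfGen7.degZero N)
    (PerfGen7.isPerfect_of_iso' eN (ProjTwists7.isPerfect_inD (H23.PullPush.isFinLocFree_of_isInvertible hN)))
  obtain ⟨t⟩ := ProjTwists7.nonempty_twD_iso hN ((FMK.phi a b P).obj (DCoh.toD X F))
  obtain ⟨m⟩ := PerfGen7.nonempty_LTensorMod_iso N ((FMK.phi a b P).obj (DCoh.toD X F))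
  exact Iso.isZero_iff ((DerivedCategory.homologyFunctor _ i).mapIso
    ((DCoh.RΓ Y).mapIso (t.symm ≪≫ m) ≪≫ e.symm ≪≫
      (DCoh.RΓ X).mapIso ((DCoh.LTensorCx F).mapIso ((DCoh.Lpull (pullback.snd a b) ⋙ DCoh.LTensorCx P ⋙
        DCoh.Rpush (pullback.fst a b)).mapIso eN.symm))))

end Groth.Agent.FMKLib7

end
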